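import Groth.Agent.EtaleSplit.DegStrat
import Mathlib

/-!
Number of geometric points in the fibres of separated quasi-compact étale morphisms.
-/

set_option autoImplicit false
set_option backward.isDefEq.respectTransparency false
set_option linter.style.haveILetI false

open AlgebraicGeometry CategoryTheory Limits

universe u

namespace Groth.Agent.EtFibCard

open Groth.Agent.EtaleSplit

theorem locallyQuasiFinite_of_etale {X Y : Scheme.{u}} (f : X ⟶ Y) [Etale f] :
    LocallyQuasiFinite f := by
  refine HasRingHomProperty.iff_appLE.2 fun U V e => ?_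
  have h := HasRingHomProperty.appLE @Etale f inferInstance U V e
  algebraize [(f.appLE U.1 V.1 e).hom]
  have : Algebra.Etale Γ(Y, U.1) Γ(X, V.1) := h
  exact (inferInstance : Algebra.QuasiFinite Γ(Y, U.1) Γ(X, V.1))

attribute [local instance] locallyQuasiFinite_of_etale

theorem finFib {X Y : Scheme.{u}} (f : X ⟶ Y) [Etale f] [QuasiCompact f] : FinFib f :=
  fun _ => IsFinite.of_locallyQuasiFinite _

theorem card_points_eq_finrank {L : Type u} [Field L] [IsSepClosed L] {P : Scheme.{u}}
    (b : P ⟶ Spec (CommRingCat.of L)) [IsFinite b] [Etale b] (s : Spec (CommRingCat.of L)) :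
    ENat.card P = b.finrank s := by
  haveI : IsAffine P := isAffine_of_isAffineHom b
  obtain ⟨φ, hφ⟩ : ∃ φ : CommRingCat.of L ⟶ Γ(P, ⊤), Spec.map φ = P.isoSpec.inv ≫ b :=
    ⟨_, Spec.map_preimage _⟩
  have hb : b = P.isoSpec.hom ≫ Spec.map φ := by rw [hφ, Iso.hom_inv_id_assoc]
  have het : Etale (Spec.map φ) := by rw [hφ]; infer_instance
  haveI : IsFinite (Spec.map φ) := by rw [hφ]; infer_instance
  haveI : Flat (Spec.map φ) := inferInstance
  have hfin : φ.hom.Finite := (IsFinite.SpecMap_iff _).1 inferInstance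
  rw [HasRingHomProperty.Spec_iff (P := @Etale)] at het
  algebraize [φ.hom]
  haveI : Algebra.Etale L Γ(P, ⊤) := het
  haveI : Module.Finite L Γ(P, ⊤) := hfin
  obtain ⟨I, hI, Ai, _, _, e, hAi⟩ := (Algebra.Etale.iff_exists_algEquiv_prod L Γ(P, ⊤)).1 inferInstance
  cases nonempty_fintype I
  have h1 : b.finrank s = Module.finrank L Γ(P, ⊤) := by
    rw [hb, Scheme.Hom.finrank_comp_left_of_isIso]
    have := Scheme.Hom.finrank_SpecMap_algebraMap L Γ(P, ⊤) s
    rw [RingHom.algebraMap_toAlgebra] at this
    exact this.trans (congrFun (Module.rankAtStalk_eq_finrank_of_free) s)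
  have h2 : ∀ i, Module.finrank L (Ai i) = 1 := fun i => by
    haveI := (hAi i).1
    haveI := (hAi i).2
    have hs : Function.Surjective (algebraMap L (Ai i)) :=
      IsSepClosed.algebraMap_surjective L (Ai i)
    rw [← (AlgEquiv.ofBijective (Algebra.ofId L (Ai i))
      ⟨(algebraMap L (Ai i)).injective, hs⟩).toLinearEquiv.finrank_eq, Module.finrank_self]
  haveI : ∀ i, Module.Finite L (Ai i) := fun i => (hAi i).1
  have h3 : Module.finrank L Γ(P, ⊤) = Fintype.card I := by
    rw [e.toLinearEquiv.finrank_eq, Module.finrank_pi_fintype]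
    simp [h2]
  have h4 : PrimeSpectrum Γ(P, ⊤) ≃ I :=
    ((PrimeSpectrum.comapEquiv e.toRingEquiv).toEquiv.trans
      (PrimeSpectrum.sigmaToPiHomeo Ai).toEquiv.symm).trans (Equiv.sigmaUnique _ _)
  rw [h1, h3, ENat.card_congr (P.isoSpec.hom.homeomorph.toEquiv.trans h4), ENat.card_eq_coe_fintype_card]

theorem card_fibre_baseChange {X Y : Scheme.{u}} (f : X ⟶ Y) [Etale f] [QuasiCompact f] (y : Y)
    (L : Type u) [Field L] [IsSepClosed L] (φ : Y.residueField y ⟶ CommRingCat.of L) :
    ENat.card ↥(pullback (f.fiberToSpecResidueField y) (Spec.map φ)) = fdeg f y := by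
  have sq : IsPullback (pullback.fst (f.fiberToSpecResidueField y) (Spec.map φ) ≫ f.fiberι y)
      (pullback.snd (f.fiberToSpecResidueField y) (Spec.map φ)) f
      (Spec.map φ ≫ Y.fromSpecResidueField y) :=
    (IsPullback.of_hasPullback _ _).paste_horiz (IsPullback.of_hasPullback f (Y.fromSpecResidueField y))
  haveI : Etale (pullback.snd (f.fiberToSpecResidueField y) (Spec.map φ)) :=
    MorphismProperty.of_isPullback (P := @Etale) sq inferInstance
  obtain ⟨hfin, hr⟩ := fdeg_of_fieldPoint f (finFib f) sq (IsLocalRing.closedPoint L)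
  haveI := hfin
  have hpt : pt (Spec.map φ ≫ Y.fromSpecResidueField y) = y := by
    unfold pt
    rw [Scheme.Hom.comp_apply]
    exact Scheme.fromSpecResidueField_apply y _
  rw [card_points_eq_finrank (pullback.snd (f.fiberToSpecResidueField y) (Spec.map φ))
    (IsLocalRing.closedPoint L), hr, hpt]

theorem card_geomFiber {X Y : Scheme.{u}} (f : X ⟶ Y) [Etale f] [QuasiCompact f] (y : Y) :
    ENat.card ↥(MoreMor.geomFiber f y) = fdeg f y :=
  card_fibre_baseChange f y (SeparableClosure (Y.residueField y)) _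

end Groth.Agent.EtFibCard
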